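import Mathlib
import Groth.Prelude.Def_GrSeg
import Groth.Agent.GrInj.Acyclic
import Groth.Agent.GrSegreLib.Gen

/-!
# Graded duals of modules with finite dimensional pieces
-/

set_option autoImplicit false
universe u

open DirectSum

namespace Groth.Agent.GrDualLib

variable {k : Type u} [Field k] {R : Type u} [CommRing R] [Algebra k R] (𝒜 : ℤ → Submodule k R) [GradedAlgebra 𝒜]
variable {M : Type u} [AddCommGroup M] [Module R M] [Module k M] [IsScalarTower k R M]
variable (ℳ : ℤ → AddSubgroup M) [Decomposition ℳ] [SetLike.GradedSMul 𝒜 ℳ]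

include 𝒜 in
theorem smul_mem_piece (n : ℤ) (c : k) {x : M} (hx : x ∈ ℳ n) : c • x ∈ ℳ n := by
  have h := SetLike.GradedSMul.smul_mem (A := 𝒜) (B := ℳ) (SetLike.algebraMap_mem_graded 𝒜 c) hx
  rwa [vadd_eq_add, zero_add, algebraMap_smul] at h

/-- a piece as a subspace -/
def piece (n : ℤ) : Submodule k M :=
  { (ℳ n) with smul_mem' := fun c _ hx => smul_mem_piece 𝒜 ℳ n c hx }

theorem mem_piece {n : ℤ} {x : M} : x ∈ piece 𝒜 ℳ n ↔ x ∈ ℳ n := Iff.rfl

/-- the component as a linear map -/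
noncomputable def projk (n : ℤ) : M →ₗ[k] M where
  toFun x := (decompose ℳ x n : M)
  map_add' x y := by simp
  map_smul' c x := by
    induction x using Decomposition.inductionOn ℳ with
    | zero => simp
    | @homogeneous j x =>
      have h := smul_mem_piece 𝒜 ℳ j c x.2
      by_cases hj : j = n
      · subst hj; rw [decompose_of_mem_same ℳ h, decompose_of_mem_same ℳ x.2]; rfl
      · rw [decompose_of_mem_ne ℳ h hj, decompose_of_mem_ne ℳ x.2 hj, RingHom.id_apply, smul_zero]
    | add a b ha hb => simp only [smul_add, decompose_add, DirectSum.add_apply, AddMemClass.coe_add, ha, hb]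

theorem projk_mem (n : ℤ) (x : M) : projk 𝒜 ℳ n x ∈ ℳ n := (decompose ℳ x n).2

theorem projk_of_mem {n : ℤ} {x : M} (hx : x ∈ ℳ n) : projk 𝒜 ℳ n x = x := decompose_of_mem_same ℳ hx

theorem projk_of_mem_ne {n m : ℤ} {x : M} (hx : x ∈ ℳ n) (h : n ≠ m) : projk 𝒜 ℳ m x = 0 :=
  decompose_of_mem_ne ℳ hx h

theorem ext_pieces {V : Type*} [AddCommGroup V] [Module k V] (f g : M →ₗ[k] V)
    (h : ∀ (n : ℤ), ∀ x ∈ ℳ n, f x = g x) : f = g := by
  refine LinearMap.ext fun x => ?_
  induction x using Decomposition.inductionOn ℳ with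
  | zero => simp
  | @homogeneous j x => exact h j x x.2
  | add a b ha hb => rw [map_add, map_add, ha, hb]

theorem finite_ring_piece (hpos : ∀ n : ℤ, n < 0 → 𝒜 n = ⊥) (h0 : 𝒜 0 = Submodule.span k {(1 : R)})
    [Algebra.FiniteType k R] (m : ℤ) : Module.Finite k (𝒜 m) := by
  classical
  obtain ⟨ι, _, a, d, ha, hspan⟩ := Groth.Agent.GrSegreLib.exists_monomial_gens 𝒜 hpos
  let G : Finset R := (Fintype.piFinset fun _ : ι => Finset.range (m.toNat + 1)).image fun β => ∏ i, a i ^ β i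
  haveI : FiniteDimensional k (Submodule.span k (G : Set R)) := FiniteDimensional.span_finset k G
  refine Submodule.finiteDimensional_of_le (S₂ := Submodule.span k (G : Set R)) fun x hx => ?_
  refine Submodule.span_le.2 ?_ (hspan m x hx)
  rintro _ ⟨α, hα, rfl⟩
  let β : ι → ℕ := fun i => if d i = 0 then 0 else α i
  have hc : ∀ i, ∃ c : k, a i ^ α i = c • a i ^ β i := by
    intro i
    by_cases hd : d i = 0
    · obtain ⟨c, hc⟩ := Submodule.mem_span_singleton.1 (h0 ▸ (by simpa [hd] using ha i) : a i ∈ Submodule.span k {(1 : R)})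
      exact ⟨c ^ α i, by simp [β, hd, ← hc, smul_pow]⟩
    · exact ⟨1, by simp [β, hd]⟩
  choose c hc using hc
  simp only [hc]
  rw [Finset.prod_smul]
  refine Submodule.smul_mem _ _ (Submodule.subset_span ?_)
  refine Finset.mem_coe.2 (Finset.mem_image.2 ⟨β, Fintype.mem_piFinset.2 fun i => Finset.mem_range.2 ?_, rfl⟩)
  by_cases hd : d i = 0
  · simp [β, hd]
  · have h1 : ((α i * d i : ℕ) : ℤ) ≤ m := hα ▸ Finset.single_le_sum (f := fun i => ((α i * d i : ℕ) : ℤ))
      (fun j _ => Int.natCast_nonneg _) (Finset.mem_univ i)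
    have h2 : α i ≤ α i * d i := Nat.le_mul_of_pos_right _ (Nat.pos_of_ne_zero hd)
    simp only [β, hd, if_false]
    omega

theorem finite_piece (hpos : ∀ n : ℤ, n < 0 → 𝒜 n = ⊥) (h0 : 𝒜 0 = Submodule.span k {(1 : R)})
    [Algebra.FiniteType k R] [Module.Finite R M] (n : ℤ) : Module.Finite k (piece 𝒜 ℳ n) := by
  classical
  obtain ⟨μ, p, x, hx, hxs⟩ := Groth.Agent.GrInj.exists_hom_gens (R := R) ℳ
  haveI : ∀ l, Module.Finite k (𝒜 (n - p l)) := fun l => finite_ring_piece 𝒜 hpos h0 _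
  let W : Submodule k M := ⨆ l, (𝒜 (n - p l)).map ((LinearMap.toSpanSingleton R M (x l)).restrictScalars k)
  refine Submodule.finiteDimensional_of_le (S₂ := W) fun y hy => ?_
  rw [← projk_of_mem 𝒜 ℳ hy]
  have hy' : y ∈ Submodule.span R (Set.range x) := hxs ▸ Submodule.mem_top
  have key : ∀ (l : Fin μ) (r : R), projk 𝒜 ℳ n (r • x l) ∈ W := by
    intro l r
    induction r using Decomposition.inductionOn 𝒜 with
    | zero => simp
    | @homogeneous j r =>
      have hm : (r : R) • x l ∈ ℳ (j + p l) := SetLike.GradedSMul.smul_mem r.2 (hx l)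
      by_cases hj : j + p l = n
      · subst hj
        rw [projk_of_mem 𝒜 ℳ hm]
        exact Submodule.mem_iSup_of_mem l ⟨r, by rw [add_sub_cancel_right]; exact r.2, rfl⟩
      · rw [projk_of_mem_ne 𝒜 ℳ hm hj]; exact zero_mem _
    | add a b ha hb => rw [add_smul, map_add]; exact add_mem ha hb
  obtain ⟨cf, rfl⟩ := (Submodule.mem_span_range_iff_exists_fun R).1 hy'
  rw [map_sum]
  exact Submodule.sum_mem _ fun l _ => key l _

variable {D : Type u} [AddCommGroup D] [Module R D] [Module k D] [IsScalarTower k R D]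
variable {𝒟 : ℤ → AddSubgroup D} [Decomposition 𝒟]
variable {ℳ} {β : D →ₗ[k] M →ₗ[k] k}

include 𝒜 in
theorem injective_of_isGDual (hD : GrSeg.IsGDual R ℳ 𝒟 β) : Function.Injective β := by
  classical
  refine (injective_iff_map_eq_zero β).2 fun d hd => ?_
  rw [← sum_support_decompose 𝒟 d]
  refine Finset.sum_eq_zero fun n hn => hD.eq_zero n _ (decompose 𝒟 d n).2 fun x hx => ?_
  have h := LinearMap.congr_fun hd x
  rw [← sum_support_decompose 𝒟 d, map_sum, LinearMap.sum_apply, Finset.sum_eq_single n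
    (fun j _ hj => hD.vanish j _ (decompose 𝒟 d j).2 (-n) (fun h => hj (neg_injective h).symm) x hx)
    (fun h' => absurd hn h')] at h
  exact h

include 𝒜 in
theorem exists_repr (hD : GrSeg.IsGDual R ℳ 𝒟 β) (n : ℤ) (φ : M →ₗ[k] k)
    (hφ : ∀ m : ℤ, m ≠ -n → ∀ x ∈ ℳ m, φ x = 0) : ∃ d ∈ 𝒟 n, β d = φ := by
  obtain ⟨d, hd, hdx⟩ := hD.exists_eq n φ
  refine ⟨d, hd, ext_pieces ℳ _ _ fun m x hx => ?_⟩
  by_cases hm : m = -n
  · subst hm; exact hdx x hx
  · rw [hD.vanish n d hd m hm x hx, hφ m hm x hx]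

variable [SetLike.GradedSMul 𝒜 𝒟]

theorem isGDual_flip (hD : GrSeg.IsGDual R ℳ 𝒟 β) (hfin : ∀ n, Module.Finite k (piece 𝒜 ℳ n)) :
    GrSeg.IsGDual R 𝒟 ℳ β.flip := by
  classical
  refine ⟨fun r x d => ?_, fun n x hx m hm d hd => ?_, fun n x hx h => ?_, fun n G => ?_⟩
  · simp only [LinearMap.flip_apply]; exact (hD.map_smul r d x).symm
  · simp only [LinearMap.flip_apply]; exact hD.vanish m d hd n (fun e => hm (by omega)) x hx
  · by_contra hx0
    obtain ⟨g, hg⟩ := Module.Projective.exists_dual_eq_one k hx0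
    obtain ⟨d, hd, hdx⟩ := hD.exists_eq (-n) g
    have h1 := hdx x (by rwa [neg_neg])
    rw [hg, show β d x = 0 from h d hd] at h1
    exact zero_ne_one h1
  · haveI := hfin n
    let V := piece 𝒜 ℳ n
    let W := piece 𝒜 𝒟 (-n)
    let ev : W →ₗ[k] Module.Dual k V := V.subtype.dualMap ∘ₗ β ∘ₗ W.subtype
    have hev : Function.Bijective ev := by
      constructor
      · refine (injective_iff_map_eq_zero ev).2 fun d hd => Subtype.ext (hD.eq_zero (-n) d d.2 fun x hx => ?_)
        exact LinearMap.congr_fun hd ⟨x, by rw [neg_neg] at hx; exact hx⟩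
      · intro φ
        obtain ⟨φ', rfl⟩ := V.subtype.dualMap_surjective_of_injective Subtype.val_injective φ
        obtain ⟨d, hd, hdx⟩ := hD.exists_eq (-n) φ'
        exact ⟨⟨d, hd⟩, LinearMap.ext fun x => hdx x (by rw [neg_neg]; exact x.2)⟩
    let e := LinearEquiv.ofBijective ev hev
    obtain ⟨x, hx⟩ := (Module.evalEquiv k V).surjective (G ∘ₗ W.subtype ∘ₗ e.symm.toLinearMap)
    refine ⟨x, x.2, fun d hd => ?_⟩
    have h := LinearMap.congr_fun hx (e ⟨d, hd⟩)
    simp only [LinearMap.comp_apply, LinearEquiv.coe_coe, e.symm_apply_apply] at h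
    exact h

end Groth.Agent.GrDualLib
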